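import Groth.Agent.S4567
import Groth.Agent.S3444
import Groth.Agent.S5863
import Groth.Agent.Lib.Branch14.Primes
import Groth.Agent.Lib.Branch14.GUBaseChange

/-!
# Constructibility of the geometrically unibranch locus
-/

set_option autoImplicit false
set_option backward.isDefEq.respectTransparency false
set_option linter.style.haveILetI false

universe u

open CategoryTheory CategoryTheory.Limits AlgebraicGeometry Topology

namespace Groth.Agent.GUConstr12

theorem isRadicialAt_iff_univInj {X Y : Scheme.{u}} (f : X ⟶ Y) (y : Y) :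
    RadPt.IsRadicialAt f y ↔ UniversallyInjective (pullback.snd f (Y.fromSpecResidueField y)) := by
  let c := Y.fromSpecResidueField y
  let pt : Spec (Y.residueField y) := IsLocalRing.closedPoint (Y.residueField y)
  have hc : c pt = y := Scheme.fromSpecResidueField_apply y pt
  have h := S5863.result (IsPullback.of_hasPullback f c) pt
  rw [hc] at h
  have htf := (tfae_universallyInjective (pullback.snd f c)).out 0 2
  rw [h, htf]
  have hall : ∀ z, pullback.snd f c z = pt := fun z => Subsingleton.elim _ _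
  exact ⟨fun h => ⟨fun a b _ => h.1 a b (hall a) (hall b), fun a => h.2 a (hall a)⟩,
    fun h => ⟨fun a b ha hb => h.1 (ha.trans hb.symm), fun a _ => h.2 a⟩⟩

theorem isLocallyConstructible_radicial {X Y : Scheme.{u}} (f : X ⟶ Y) [LocallyOfFinitePresentation f]
    [QuasiCompact f] [QuasiSeparated f] :
    Topology.IsLocallyConstructible {y : Y | RadPt.IsRadicialAt f y} := by
  haveI : LocallyOfFinitePresentation (f ≫ 𝟙 Y) := by rw [Category.comp_id]; infer_instance
  haveI : QuasiCompact (f ≫ 𝟙 Y) := by rw [Category.comp_id]; infer_instance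
  haveI : QuasiSeparated (f ≫ 𝟙 Y) := by rw [Category.comp_id]; infer_instance
  convert! S3444.result f (𝟙 Y) using 1
  ext s
  have key : ∀ f' : X ⟶ Y, f' = f →
      (RadPt.IsRadicialAt f s ↔ UniversallyInjective (pullback.snd f' (Y.fromSpecResidueField s))) := by
    rintro _ rfl
    exact isRadicialAt_iff_univInj _ s
  show RadPt.IsRadicialAt f s ↔ UniversallyInjective (pullback.lift _ _ _)
  rw [key (f ≫ 𝟙 Y) (Category.comp_id f),
    ← MorphismProperty.cancel_right_of_respectsIso @UniversallyInjective (pullback.lift _ _ _)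
      (pullback.snd (𝟙 Y) (Y.fromSpecResidueField s)), pullback.lift_snd]

section Ring

variable {A : Type u} [CommRing A] [IsNoetherianRing A]

theorem isBir_normRed : Branch14.Bir.IsBir A (CAlg2.normRed A) := by
  have hfin : (minimalPrimes A).Finite := minimalPrimes.finite_of_isNoetherianRing A
  refine ⟨Branch14.comap_normRed_mem_minimalPrimes A hfin, fun q q' _ _ hq he => ?_, fun p hp => ?_,
    fun q _ hq s => ?_⟩
  · ext x
    obtain ⟨d, r, hd, h⟩ := Branch14.exists_normRed_denominator A x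
    have key : ∀ (P : Ideal (CAlg2.normRed A)) [P.IsPrime],
        P.comap (algebraMap A (CAlg2.normRed A)) ∈ minimalPrimes A →
          (x ∈ P ↔ r ∈ P.comap (algebraMap A (CAlg2.normRed A))) := by
      intro P _ hP
      rw [Ideal.mem_comap, ← h]
      exact ⟨fun hx => P.mul_mem_left _ hx, fun hx => ((‹P.IsPrime›).mem_or_mem hx).resolve_left (hd _ hP)⟩
    rw [key q hq, key q' (he ▸ hq), he]
  · haveI := hp.1.1
    obtain ⟨g, hg⟩ := Branch14.exists_hom_normRed A (algebraMap A p.ResidueField) (by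
      rw [Ideal.ker_algebraMap_residueField]; exact hp)
    refine ⟨RingHom.ker g, RingHom.ker_isPrime _, ?_⟩
    rw [RingHom.comap_ker, show g.comp (algebraMap A _) = algebraMap A p.ResidueField from RingHom.ext hg,
      Ideal.ker_algebraMap_residueField]
  · obtain ⟨d, r, hd, h⟩ := Branch14.exists_normRed_denominator A s
    refine ⟨r, d, fun hdq => hd _ hq hdq, ?_⟩
    rw [mul_comm, h, sub_self]
    exact zero_mem _

theorem isBirational_normRed :
    RadPt.IsBirational (Spec.map (CommRingCat.ofHom (algebraMap A (CAlg2.normRed A)))) := by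
  have hb := isBir_normRed (A := A)
  have hgen : ∀ (R : Type u) [CommRing R] (x : Spec (CommRingCat.of R)),
      x ∈ genericPoints (Spec (CommRingCat.of R)) ↔ x.asIdeal ∈ minimalPrimes R := by
    intro R _ x
    rw [Branch14.Bir.mem_genericPoints_iff_forall]
    constructor
    · intro h
      refine ⟨⟨x.2, bot_le⟩, fun Q hQ hle => ?_⟩
      exact (congrArg PrimeSpectrum.asIdeal (h ⟨Q, hQ.1⟩ ((PrimeSpectrum.le_iff_specializes _ x).1 hle))).ge
    · intro h z hz
      have hle : z.asIdeal ≤ x.asIdeal := (PrimeSpectrum.le_iff_specializes z x).2 hz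
      exact PrimeSpectrum.ext (le_antisymm hle (h.2 ⟨z.2, bot_le⟩ hle))
  set f := Spec.map (CommRingCat.ofHom (algebraMap A (CAlg2.normRed A)))
  have hover : ∀ x, f x ∈ genericPoints (Spec (CommRingCat.of A)) →
      x.asIdeal.comap (algebraMap A (CAlg2.normRed A)) ∈ minimalPrimes A := fun x hx => (hgen A _).1 hx
  refine ⟨⟨fun x hx => (hgen A _).2 (hb.comap_min _ ((hgen _ x).1 hx)), fun x hx x' hx' he => ?_, fun y hy => ?_⟩,
    fun y hy => ⟨fun x x' hx hx' => ?_, fun x hx => ⟨(f.residueFieldMap x).hom.injective, fun z => ?_⟩⟩⟩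
  · exact PrimeSpectrum.ext (hb.eq_of_comap _ _ (hb.comap_min _ ((hgen _ x).1 hx)) (congrArg PrimeSpectrum.asIdeal he))
  · obtain ⟨q, hq, hqy⟩ := hb.exists_comap y.asIdeal ((hgen A y).1 hy)
    obtain ⟨q₀, hq₀, hle⟩ := Ideal.exists_minimalPrimes_le (I := (⊥ : Ideal (CAlg2.normRed A))) (J := q) bot_le
    haveI := hq₀.1.1
    have hy' := (hgen A y).1 hy
    have e : q₀.comap (algebraMap A (CAlg2.normRed A)) = y.asIdeal :=
      le_antisymm (hqy ▸ Ideal.comap_mono hle) (hy'.2 ⟨Ideal.comap_isPrime _ _, bot_le⟩ (hqy ▸ Ideal.comap_mono hle))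
    exact ⟨⟨q₀, hq₀.1.1⟩, (hgen _ _).2 hq₀, PrimeSpectrum.ext e⟩
  · subst hx
    exact PrimeSpectrum.ext (hb.eq_of_comap _ _ (hover x hy) (congrArg PrimeSpectrum.asIdeal hx'.symm))
  · subst hx
    have hx0 := hover x hy
    obtain ⟨c, t, ht, hc⟩ := UH.exists_ev _ x z
    have key : ∀ b : CAlg2.normRed A, ∃ w, f.residueFieldMap x w = UH.ev _ x b := by
      intro b
      refine (UH.resAt_iff (algebraMap A (CAlg2.normRed A)) x b).mp ?_
      obtain ⟨a, s, hs, hb'⟩ := hb.exists_frac x.asIdeal hx0 b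
      exact ⟨a, s, hs, by rw [mul_comm]; exact hb'⟩
    obtain ⟨z₁, h₁⟩ := key c
    obtain ⟨z₂, h₂⟩ := key t
    refine ⟨z₁ / z₂, ?_⟩
    show (f.residueFieldMap x).hom (z₁ / z₂) = z
    rw [map_div₀]
    erw [h₁, h₂]
    rw [div_eq_iff (fun h0 => ht ((UH.ev_eq_zero _ x _).mp h0)), ← hc, mul_comm]

theorem isLocallyConstructible_gu [Module.Finite (CAlg2.red A) (CAlg2.normRed A)] :
    Topology.IsLocallyConstructible {y : Spec (CommRingCat.of A) |
      CAlg2.IsGeomUnibranch ((Spec (CommRingCat.of A)).presheaf.stalk y)} := by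
  haveI : Module.Finite A (CAlg2.red A) :=
    Module.Finite.of_surjective (Algebra.linearMap A (CAlg2.red A)) Ideal.Quotient.mk_surjective
  haveI : Module.Finite A (CAlg2.normRed A) := Module.Finite.trans (CAlg2.red A) _
  let f := Spec.map (CommRingCat.ofHom (algebraMap A (CAlg2.normRed A)))
  haveI : IsFinite f := (IsFinite.SpecMap_iff _).2 (RingHom.finite_algebraMap.2 ‹_›)
  haveI : LocallyOfFinitePresentation f := LocallyOfFinitePresentation.iff_locallyOfFiniteType.2 inferInstance
  convert! isLocallyConstructible_radicial f using 1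
  ext y
  show CAlg2.IsGeomUnibranch _ ↔ _
  rw [Branch14.Bir.iff_radicial f isBirational_normRed y]
  refine ⟨fun h => h.1, fun h => ⟨h, fun x _ => (S4567.gu_spec _ x).2 ?_⟩⟩
  obtain ⟨h1, h2⟩ := Branch14.normRed_localization_normal A (minimalPrimes.finite_of_isNoetherianRing A) x.asIdeal
  exact Branch14.isGeomUnibranch_of_isIntegrallyClosed (Localization.AtPrime x.asIdeal)

end Ring

theorem isLocallyConstructible_gu_scheme (X : Scheme.{u}) [IsLocallyNoetherian X]
    (hfin : ∀ U : X.affineOpens, Module.Finite (CAlg2.red Γ(X, U.1)) (CAlg2.normRed Γ(X, U.1))) :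
    Topology.IsLocallyConstructible {x : X | CAlg2.IsGeomUnibranch (X.presheaf.stalk x)} := by
  refine IsLocallyConstructible.of_isOpenCover (iSup_affineOpens_eq_top X) fun U => ?_
  haveI : IsNoetherianRing Γ(X, U.1) := IsLocallyNoetherian.component_noetherian U
  haveI := hfin U
  have h := (isLocallyConstructible_gu (A := Γ(X, U.1))).preimage_of_isOpenEmbedding
    (U.2.isoSpec.hom.isOpenEmbedding)
  suffices hset : (((Subtype.val : (U.1 : Set X) → X) ⁻¹' {x : X | CAlg2.IsGeomUnibranch (X.presheaf.stalk x)})) =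
      U.2.isoSpec.hom ⁻¹' {y | CAlg2.IsGeomUnibranch ((Spec (CommRingCat.of Γ(X, U.1))).presheaf.stalk y)} by
    rw [hset]; exact h
  refine Set.ext fun x => ?_
  show CAlg2.IsGeomUnibranch (X.presheaf.stalk x.1) ↔ CAlg2.IsGeomUnibranch _
  have e : U.2.fromSpec (U.2.isoSpec.hom x) = x.1 := by
    rw [← Scheme.Hom.comp_apply, ← U.2.isoSpec_inv_ι, Iso.hom_inv_id_assoc]
    rfl
  rw [← e]
  exact Branch14.Bir.gu_congr (asIso (U.2.fromSpec.stalkMap (U.2.isoSpec.hom x))).commRingCatIsoToRingEquiv

end Groth.Agent.GUConstr12
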